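import Groth.Agent.S0238
import Groth.Prelude.Def_FSch4

/-!
# Etale covers of a formal system are etale covers of its smallest level
-/

set_option autoImplicit false
set_option linter.style.haveILetI false
set_option backward.isDefEq.respectTransparency false
set_option backward.isDefEq.respectTransparency.types false
universe u
open CategoryTheory CategoryTheory.Limits AlgebraicGeometry

namespace Groth.Agent.EtCovLvl

variable {X X' : Scheme.{u}} (i : X ⟶ X') [IsClosedImmersion i] [Surjective i]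

/-- Morphisms of finite etale covers extend uniquely over a nil thickening. -/
theorem existsUnique_extend {R R' T T' : Scheme.{u}} {h : R' ⟶ X'} {h₀ : R ⟶ X} {j : R ⟶ R'}
    {k : T' ⟶ X'} {k₀ : T ⟶ X} {l : T ⟶ T'} (sq : IsPullback j h₀ h i) (sq' : IsPullback l k₀ k i)
    (hh : FEt.prop h) (hk : FEt.prop k) (a : R ⟶ T) (ha : a ≫ k₀ = h₀) :
    ∃! a' : R' ⟶ T', a' ≫ k = h ∧ j ≫ a' = a ≫ l := by
  haveI := Groth.Agent.S0238.result i
  let U : FEt.Cat X' := MorphismProperty.Over.mk ⊤ h hh
  let V : FEt.Cat X' := MorphismProperty.Over.mk ⊤ k hk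
  let eU : pullback h i ≅ R := sq.isoPullback.symm
  let eV : T ≅ pullback k i := sq'.isoPullback
  let φ₀ : (FEt.restrict i).obj U ⟶ (FEt.restrict i).obj V :=
    MorphismProperty.Over.homMk (eU.hom ≫ a ≫ eV.hom) (by
      show (eU.hom ≫ a ≫ eV.hom) ≫ pullback.snd k i = pullback.snd h i
      rw [Category.assoc, Category.assoc, sq'.isoPullback_hom_snd, ha]
      exact sq.isoPullback_inv_snd)
  obtain ⟨φ, hφ⟩ := (FEt.restrict i).map_surjective φ₀
  have key : ∀ (ψ : U ⟶ V), j ≫ ψ.left = a ≫ l ↔ ((FEt.restrict i).map ψ).left = eU.hom ≫ a ≫ eV.hom := by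
    intro ψ
    have h1 : ((FEt.restrict i).map ψ).left ≫ pullback.fst k i = pullback.fst h i ≫ ψ.left :=
      pullback.lift_fst _ _ _
    have h2 : ((FEt.restrict i).map ψ).left ≫ pullback.snd k i = pullback.snd h i :=
      pullback.lift_snd _ _ _
    constructor
    · intro e
      apply pullback.hom_ext
      · refine h1.trans ?_
        erw [Category.assoc, Category.assoc, sq'.isoPullback_hom_fst, ← e, ← Category.assoc]
        exact congrArg (· ≫ ψ.left) sq.isoPullback_inv_fst.symm
      · refine h2.trans ?_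
        erw [Category.assoc, Category.assoc, sq'.isoPullback_hom_snd, ha]
        exact sq.isoPullback_inv_snd.symm
    · intro e
      have h3 : eU.hom ≫ j ≫ ψ.left = eU.hom ≫ a ≫ l := by
        rw [← Category.assoc, show eU.hom ≫ j = pullback.fst h i from sq.isoPullback_inv_fst, ← h1, e,
          Category.assoc, Category.assoc, sq'.isoPullback_hom_fst]
      exact (cancel_epi eU.hom).1 h3
  refine ⟨φ.left, ⟨MorphismProperty.Over.w φ, (key φ).2 (by rw [hφ]; rfl)⟩, ?_⟩
  rintro a' ⟨ha', hja'⟩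
  let ψ : U ⟶ V := MorphismProperty.Over.homMk a' ha'
  have : ψ = φ := (FEt.restrict i).map_injective (by
    rw [hφ]
    ext
    exact (key ψ).1 hja')
  exact congrArg (fun m => m.left) this

variable (𝔛 : FSch.Sys.{u})

theorem level_isEquivalence (hi : ∀ n, IsClosedImmersion (𝔛.ι n)) (hs : ∀ n, Surjective (𝔛.ι n)) :
    (FSch.EtCov.level 𝔛 0).IsEquivalence := by
  haveI : (FSch.EtCov.level 𝔛 0).Faithful := ⟨fun {R R'} φ ψ e => by
    apply (FSch.etCovProp 𝔛).ι.map_injective
    refine Over.OverMorphism.ext (FSch.Hom.ext (funext fun n => ?_))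
    induction n with
    | zero => exact congrArg (fun m => m.left) e
    | succ n ih =>
      haveI := hi n
      haveI := hs n
      have w : ∀ (χ : R.obj ⟶ R'.obj) (m : ℕ), (χ.left : FSch.Hom _ _).app m ≫
          (R'.obj.hom : FSch.Hom _ _).app m = (R.obj.hom : FSch.Hom _ _).app m := fun χ m => by
        rw [← FSch.comp_app, Over.w χ]
      refine (existsUnique_extend (𝔛.ι n) (R.property.1 n) (R'.property.1 n) (R.property.2 (n + 1))
        (R'.property.2 (n + 1)) _ (w φ.hom n)).unique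
        ⟨w φ.hom (n + 1), ((φ.hom.left : FSch.Hom _ _).comm n).symm⟩ ⟨w ψ.hom (n + 1), ?_⟩
      exact (((ψ.hom.left : FSch.Hom _ _).comm n).symm).trans (congrArg (· ≫ R'.obj.left.ι n) ih.symm)⟩
  haveI : (FSch.EtCov.level 𝔛 0).Full := ⟨fun {R R'} a => by
    let h := (R.obj.hom : FSch.Hom _ _)
    let k := (R'.obj.hom : FSch.Hom _ _)
    have ext' : ∀ (n : ℕ) (a : R.obj.left.X n ⟶ R'.obj.left.X n), a ≫ k.app n = h.app n →
        ∃! a' : R.obj.left.X (n + 1) ⟶ R'.obj.left.X (n + 1),
          a' ≫ k.app (n + 1) = h.app (n + 1) ∧ R.obj.left.ι n ≫ a' = a ≫ R'.obj.left.ι n := fun n a ha => by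
      haveI := hi n
      haveI := hs n
      exact existsUnique_extend (𝔛.ι n) (R.property.1 n) (R'.property.1 n) (R.property.2 (n + 1))
        (R'.property.2 (n + 1)) a ha
    let seq : ∀ n, {a : R.obj.left.X n ⟶ R'.obj.left.X n // a ≫ k.app n = h.app n} := fun n =>
      Nat.rec ⟨a.left, MorphismProperty.Over.w a⟩
        (fun n an => ⟨(ext' n an.1 an.2).exists.choose, (ext' n an.1 an.2).exists.choose_spec.1⟩) n
    let F : FSch.Hom R.obj.left R'.obj.left :=
      ⟨fun n => (seq n).1, fun n => ((ext' n (seq n).1 (seq n).2).exists.choose_spec.2).symm⟩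
    exact ⟨ObjectProperty.homMk (Over.homMk F (FSch.Hom.ext (funext fun n => (seq n).2))),
      MorphismProperty.Over.Hom.ext rfl⟩⟩
  haveI : (FSch.EtCov.level 𝔛 0).EssSurj := ⟨fun U₀ => by
    have ex : ∀ (n : ℕ) (U : FEt.Cat (𝔛.X n)), ∃ V : FEt.Cat (𝔛.X (n + 1)),
        ∃ j : U.left ⟶ V.left, IsPullback j U.hom V.hom (𝔛.ι n) := fun n U => by
      haveI := hi n
      haveI := hs n
      haveI := Groth.Agent.S0238.result (𝔛.ι n)
      let e := (FEt.restrict (𝔛.ι n)).objObjPreimageIso U
      let V := (FEt.restrict (𝔛.ι n)).objPreimage U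
      refine ⟨V, e.inv.left ≫ pullback.fst V.hom (𝔛.ι n), ?_⟩
      exact (IsPullback.of_hasPullback V.hom (𝔛.ι n)).of_iso
        ⟨e.hom.left, e.inv.left, congrArg (fun m => m.left) e.hom_inv_id,
          congrArg (fun m => m.left) e.inv_hom_id⟩
        (Iso.refl _) (Iso.refl _) (Iso.refl _)
        (by
          show pullback.fst _ _ ≫ 𝟙 _ = e.hom.left ≫ e.inv.left ≫ pullback.fst V.hom (𝔛.ι n)
          rw [← Category.assoc, show e.hom.left ≫ e.inv.left = 𝟙 _ from congrArg (fun m => m.left) e.hom_inv_id]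
          exact (Category.comp_id _).trans (Category.id_comp _).symm)
        ((Category.comp_id _).trans (MorphismProperty.Over.w e.hom).symm)
        (by simp) (by simp)
    let seq : ∀ n, FEt.Cat (𝔛.X n) := fun n => Nat.rec U₀ (fun n U => (ex n U).choose) n
    let 𝔕 : FSch.Sys.{u} := ⟨fun n => (seq n).left, fun n => (ex n (seq n)).choose_spec.choose⟩
    let π : FSch.Hom 𝔕 𝔛 := ⟨fun n => (seq n).hom, fun n => (ex n (seq n)).choose_spec.choose_spec.w.symm⟩
    refine ⟨⟨Over.mk (show 𝔕 ⟶ 𝔛 from π), fun n => (ex n (seq n)).choose_spec.choose_spec,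
      fun n => ⟨(seq n).prop.1, (seq n).prop.2⟩⟩, ⟨MorphismProperty.Over.isoMk (Iso.refl _) ?_⟩⟩
    exact Category.id_comp _⟩
  exact { }

end Groth.Agent.EtCovLvl
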